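import Mathlib

/-!
Dimension of local rings along a morphism: `dim 𝒪_x ≤ dim 𝒪_{f x} + dim` of the fibre,
with `≥` for the base term in the flat case.
-/

set_option autoImplicit false

universe u

open AlgebraicGeometry CategoryTheory IsLocalRing Topology

namespace Groth.Agent.DimFibre

variable {X Y : Scheme.{u}} (f : X ⟶ Y)

/-- the ideal of the fibre inside the local ring at a point -/
noncomputable abbrev fibreIdeal (x : X) : Ideal (X.presheaf.stalk x) :=
  (maximalIdeal (Y.presheaf.stalk (f x))).map (f.stalkMap x).hom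

theorem map_fromSpecStalk_eq (x : X) (Q : PrimeSpectrum (X.presheaf.stalk x))
    (hQ : fibreIdeal f x ≤ Q.asIdeal) : f (X.fromSpecStalk x Q) = f x := by
  have h : Y.fromSpecStalk (f x) (Spec.map (f.stalkMap x) Q) = f (X.fromSpecStalk x Q) :=
    congr($(Scheme.SpecMap_stalkMap_fromSpecStalk f (x := x)) Q)
  have hc : Spec.map (f.stalkMap x) Q = closedPoint (Y.presheaf.stalk (f x)) := by
    refine PrimeSpectrum.ext ?_
    exact ((maximalIdeal.isMaximal _).eq_of_le (Ideal.IsPrime.ne_top inferInstance)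
      (Ideal.map_le_iff_le_comap.mp hQ)).symm
  exact h.symm.trans ((congrArg (Y.fromSpecStalk (f x)) hc).trans Scheme.fromSpecStalk_closedPoint)

theorem exists_prime_of_specializes {x z : X} (hz : z ⤳ x) (hfz : f z = f x) :
    ∃ Q : PrimeSpectrum (X.presheaf.stalk x),
      fibreIdeal f x ≤ Q.asIdeal ∧ X.fromSpecStalk x Q = z := by
  obtain ⟨Q, hQ⟩ : z ∈ Set.range (X.fromSpecStalk x) := by
    rw [Scheme.range_fromSpecStalk]; exact hz
  refine ⟨Q, ?_, hQ⟩
  have h : Y.fromSpecStalk (f x) (Spec.map (f.stalkMap x) Q) = f (X.fromSpecStalk x Q) :=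
    congr($(Scheme.SpecMap_stalkMap_fromSpecStalk f (x := x)) Q)
  have hc : Spec.map (f.stalkMap x) Q = closedPoint (Y.presheaf.stalk (f x)) :=
    (Y.fromSpecStalk (f x)).isEmbedding.injective
      (h.trans ((congrArg f.base hQ).trans (hfz.trans Scheme.fromSpecStalk_closedPoint.symm)))
  exact Ideal.map_le_iff_le_comap.mpr (congrArg PrimeSpectrum.asIdeal hc).ge

theorem ringKrullDim_le_add [IsLocallyNoetherian X] [IsLocallyNoetherian Y] (x : X) {d : WithBot ℕ∞}
    (hd : ringKrullDim (X.presheaf.stalk x ⧸ fibreIdeal f x) ≤ d) :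
    ringKrullDim (X.presheaf.stalk x) ≤ ringKrullDim (Y.presheaf.stalk (f x)) + d := by
  letI : Algebra (Y.presheaf.stalk (f x)) (X.presheaf.stalk x) := (f.stalkMap x).hom.toAlgebra
  haveI : (maximalIdeal (X.presheaf.stalk x)).LiesOver (maximalIdeal (Y.presheaf.stalk (f x))) :=
    (Ideal.liesOver_iff _ _).mpr (Eq.symm
      (((IsLocalRing.local_hom_TFAE (f.stalkMap x).hom).out 0 4).mp (by infer_instance)))
  have h := Ideal.height_le_height_add_of_liesOver (maximalIdeal (Y.presheaf.stalk (f x)))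
    (maximalIdeal (X.presheaf.stalk x))
  rw [← maximalIdeal_height_eq_ringKrullDim, ← maximalIdeal_height_eq_ringKrullDim]
  refine le_trans (WithBot.coe_le_coe.mpr h) ?_
  rw [WithBot.coe_add]
  refine add_le_add le_rfl (le_trans ?_ hd)
  set K := fibreIdeal f x
  have hKm : K ≤ maximalIdeal (X.presheaf.stalk x) := by
    rw [show K = (maximalIdeal _).map (f.stalkMap x).hom from rfl]
    exact ((IsLocalRing.local_hom_TFAE (f.stalkMap x).hom).out 0 2).mp (by infer_instance)
  haveI : ((maximalIdeal (X.presheaf.stalk x)).map (Ideal.Quotient.mk K)).IsPrime :=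
    Ideal.map_isPrime_of_surjective Ideal.Quotient.mk_surjective (by rwa [Ideal.mk_ker])
  exact Ideal.height_le_ringKrullDim_of_ne_top (Ideal.IsPrime.ne_top inferInstance)

theorem ringKrullDim_ge_of_flat [IsLocallyNoetherian X] [IsLocallyNoetherian Y] [Flat f] (x : X) :
    ringKrullDim (Y.presheaf.stalk (f x)) ≤ ringKrullDim (X.presheaf.stalk x) := by
  letI : Algebra (Y.presheaf.stalk (f x)) (X.presheaf.stalk x) := (f.stalkMap x).hom.toAlgebra
  haveI : Module.Flat (Y.presheaf.stalk (f x)) (X.presheaf.stalk x) := Flat.stalkMap f x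
  haveI : (maximalIdeal (X.presheaf.stalk x)).LiesOver (maximalIdeal (Y.presheaf.stalk (f x))) :=
    (Ideal.liesOver_iff _ _).mpr (Eq.symm
      (((IsLocalRing.local_hom_TFAE (f.stalkMap x).hom).out 0 4).mp (by infer_instance)))
  rw [← maximalIdeal_height_eq_ringKrullDim, ← maximalIdeal_height_eq_ringKrullDim,
    Ideal.height_eq_height_add_of_liesOver_of_hasGoingDown
      (maximalIdeal (Y.presheaf.stalk (f x))) (maximalIdeal (X.presheaf.stalk x))]
  exact WithBot.coe_le_coe.mpr le_self_add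

theorem exists_point_dim_le [IsLocallyNoetherian X] [IsLocallyNoetherian Y] (x₀ : X) :
    ∃ x, f x = f x₀ ∧
      ringKrullDim (X.presheaf.stalk x) ≤ ringKrullDim (Y.presheaf.stalk (f x)) := by
  have hne : fibreIdeal f x₀ ≤ maximalIdeal _ :=
    ((IsLocalRing.local_hom_TFAE (f.stalkMap x₀).hom).out 0 2).mp (by infer_instance)
  obtain ⟨Q, hQ, -⟩ := Ideal.exists_minimalPrimes_le hne
  let P : PrimeSpectrum (X.presheaf.stalk x₀) := ⟨Q, hQ.1.1⟩
  let x := X.fromSpecStalk x₀ P
  have hx : f x = f x₀ := map_fromSpecStalk_eq f x₀ P hQ.1.2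
  refine ⟨x, hx, ?_⟩
  have hxx : x ⤳ x₀ := by
    have : x ∈ Set.range (X.fromSpecStalk x₀) := ⟨P, rfl⟩
    rwa [Scheme.range_fromSpecStalk] at this
  have h0 : ringKrullDim (X.presheaf.stalk x ⧸ fibreIdeal f x) ≤ 0 := by
    rw [← Nat.cast_zero, ← Ring.krullDimLE_iff, Ring.krullDimLE_zero_iff]
    intro I hI
    have key : ∀ J : Ideal (X.presheaf.stalk x), J.IsPrime → fibreIdeal f x ≤ J →
        J = maximalIdeal _ := by
      intro J hJ hle
      let z := X.fromSpecStalk x ⟨J, hJ⟩
      have hzx : z ⤳ x := by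
        have : z ∈ Set.range (X.fromSpecStalk x) := ⟨⟨J, hJ⟩, rfl⟩
        rwa [Scheme.range_fromSpecStalk] at this
      have hfz : f z = f x := map_fromSpecStalk_eq f x ⟨J, hJ⟩ hle
      obtain ⟨Q', hQ', hQ'z⟩ := exists_prime_of_specializes f (hzx.trans hxx) (hfz.trans hx)
      have hsp : Q' ⤳ P := (X.fromSpecStalk x₀).isEmbedding.specializes_iff.mp (by
        show X.fromSpecStalk x₀ Q' ⤳ X.fromSpecStalk x₀ P
        rw [hQ'z]; exact hzx)
      have hle' : Q'.asIdeal ≤ Q := (PrimeSpectrum.le_iff_specializes Q' P).mpr hsp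
      have hQQ : Q' = P := PrimeSpectrum.ext (le_antisymm hle' (hQ.2 ⟨Q'.2, hQ'⟩ hle'))
      have hzeq : z = x := by rw [← hQ'z, hQQ]
      have hinj : (⟨J, hJ⟩ : PrimeSpectrum (X.presheaf.stalk x)) = closedPoint _ :=
        (X.fromSpecStalk x).isEmbedding.injective (hzeq.trans Scheme.fromSpecStalk_closedPoint.symm)
      exact congrArg PrimeSpectrum.asIdeal hinj
    have hc := key (I.comap (Ideal.Quotient.mk _)) inferInstance
      (fun r hr => by
        rw [Ideal.mem_comap, Ideal.Quotient.eq_zero_iff_mem.mpr hr]; exact zero_mem _)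
    have hm : (I.comap (Ideal.Quotient.mk (fibreIdeal f x))).IsMaximal :=
      hc ▸ maximalIdeal.isMaximal _
    exact Ideal.isMaximal_of_isIntegral_of_isMaximal_comap'
      (Ideal.Quotient.mk (fibreIdeal f x))
      (RingHom.IsIntegral.of_finite (RingHom.Finite.of_surjective _ Ideal.Quotient.mk_surjective))
      I hm
  simpa using ringKrullDim_le_add f x h0

theorem fibre_dim_le (x : X) :
    ringKrullDim (X.presheaf.stalk x ⧸ fibreIdeal f x) ≤ topologicalKrullDim (f.fiber (f x)) := by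
  rw [IsHomeomorph.topologicalKrullDim_eq _ (f.fiberHomeo (f x)).isHomeomorph]
  refine le_trans ?_ (Order.krullDim_orderDual
    (α := TopologicalSpace.IrreducibleCloseds (f ⁻¹' {f x}))).le
  let pt : PrimeSpectrum (X.presheaf.stalk x ⧸ fibreIdeal f x) → (f ⁻¹' {f x} : Set X) := fun Q =>
    ⟨X.fromSpecStalk x (PrimeSpectrum.comap (Ideal.Quotient.mk _) Q),
      map_fromSpecStalk_eq f x _ fun r hr => by
        show Ideal.Quotient.mk (fibreIdeal f x) r ∈ Q.asIdeal
        rw [Ideal.Quotient.eq_zero_iff_mem.mpr hr]; exact zero_mem _⟩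
  let g : PrimeSpectrum (X.presheaf.stalk x ⧸ fibreIdeal f x) →
      (TopologicalSpace.IrreducibleCloseds (f ⁻¹' {f x} : Set X))ᵒᵈ := fun Q =>
    OrderDual.toDual ⟨closure {pt Q}, isIrreducible_singleton.closure, isClosed_closure⟩
  refine Order.krullDim_le_of_strictMono g fun P Q hPQ => ?_
  have hemb : ∀ P Q, pt P ⤳ pt Q ↔ P ≤ Q := fun P Q => by
    rw [← Topology.IsEmbedding.subtypeVal.specializes_iff]
    refine (X.fromSpecStalk x).isEmbedding.specializes_iff.trans ?_
    refine (PrimeSpectrum.le_iff_specializes _ _).symm.trans ?_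
    exact ⟨fun h r hr => by
        obtain ⟨r, rfl⟩ := Ideal.Quotient.mk_surjective r
        exact h hr, fun h => Ideal.comap_mono h⟩
  refine lt_of_le_not_ge ?_ ?_
  · show closure {pt Q} ⊆ closure {pt P}
    exact specializes_iff_closure_subset.mp ((hemb P Q).mpr hPQ.le)
  · intro h
    have : pt Q ⤳ pt P := specializes_iff_closure_subset.mpr h
    exact not_le_of_gt hPQ ((hemb Q P).mp this)

theorem quot_dim_le_fibre_stalk (x : X) :
    ringKrullDim (X.presheaf.stalk x ⧸ fibreIdeal f x) ≤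
      ringKrullDim ((f.fiber (f x)).presheaf.stalk (f.asFiber x)) := by
  rw [ringKrullDim_stalk_eq_coheight, Order.coheight_eq_krullDim_Ici]
  let pz : PrimeSpectrum (X.presheaf.stalk x ⧸ fibreIdeal f x) → X := fun Q =>
    X.fromSpecStalk x (PrimeSpectrum.comap (Ideal.Quotient.mk _) Q)
  have hpz : ∀ Q, f (pz Q) = f x := fun Q => map_fromSpecStalk_eq f x _ fun r hr => by
    show Ideal.Quotient.mk (fibreIdeal f x) r ∈ Q.asIdeal
    rw [Ideal.Quotient.eq_zero_iff_mem.mpr hr]; exact zero_mem _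
  let pf : PrimeSpectrum (X.presheaf.stalk x ⧸ fibreIdeal f x) → f.fiber (f x) := fun Q =>
    (f.fiberHomeo (f x)).symm ⟨pz Q, hpz Q⟩
  have hle : ∀ P Q, pf P ⤳ pf Q ↔ P ≤ Q := fun P Q => by
    rw [← (f.fiberι (f x)).isEmbedding.specializes_iff]
    simp only [pf, Scheme.Hom.fiberι_fiberHomeo_symm]
    refine (X.fromSpecStalk x).isEmbedding.specializes_iff.trans ?_
    refine (PrimeSpectrum.le_iff_specializes _ _).symm.trans ?_
    exact ⟨fun h r hr => by
        obtain ⟨r, rfl⟩ := Ideal.Quotient.mk_surjective r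
        exact h hr, fun h => Ideal.comap_mono h⟩
  have hmem : ∀ Q, pf Q ⤳ f.asFiber x := fun Q => by
    rw [← (f.fiberι (f x)).isEmbedding.specializes_iff]
    simp only [pf, Scheme.Hom.fiberι_fiberHomeo_symm, Scheme.Hom.fiberι_asFiber]
    have : pz Q ∈ Set.range (X.fromSpecStalk x) := ⟨_, rfl⟩
    rwa [Scheme.range_fromSpecStalk] at this
  rw [← Order.krullDim_orderDual (α := Set.Ici (f.asFiber x))]
  refine Order.krullDim_le_of_strictMono
    (fun Q => OrderDual.toDual (⟨pf Q, hmem Q⟩ : Set.Ici (f.asFiber x))) fun P Q hPQ => ?_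
  exact ⟨(hle P Q).mpr hPQ.le, fun h => not_le_of_gt hPQ ((hle Q P).mp h)⟩

end Groth.Agent.DimFibre
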